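import Cfsg.Agent.Lib.Known.SLLift.Main
import Cfsg.Agent.Lib.Classical.GLOrder
import Cfsg.Agent.Lib.Classical.SLBasic
import Cfsg.Prelude.Def_KGroupFacts

/-!
# The multipliers of `SL_n(q)` and `PSL_n(q)`
-/

set_option autoImplicit false

namespace CfsgLib.Known.SLLift

universe u v

open CfsgLib.Known.SL2Lift
open scoped commutatorElement

/-- If the map `ψ` lifts to a stem extension, the kernel lies in the image of the kernel of `ψ`. -/
theorem ker_le_map {S E G : Type*} [Group S] [Group E] [Group G] {σ : E →* G} (hσ : Cfsg.IsStemExtension σ)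
    {ψ : S →* G} (hψ : Function.Surjective ψ) {s : S →* E} (hs : σ.comp s = ψ) : σ.ker ≤ ψ.ker.map s := by
  intro z hz
  have hle : commutator E ≤ s.range := by
    rw [commutator_def, Subgroup.commutator_le]
    intro a _ b _
    obtain ⟨x, hx⟩ := hψ (σ a)
    obtain ⟨y, hy⟩ := hψ (σ b)
    have hx' : σ a = σ (s x) := by rw [← MonoidHom.comp_apply σ s, hs, hx]
    have hy' : σ b = σ (s y) := by rw [← MonoidHom.comp_apply σ s, hs, hy]
    rw [comm_central_left hσ.2.1 hx', comm_central_right hσ.2.1 hy', ← map_commutatorElement]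
    exact ⟨_, rfl⟩
  obtain ⟨x, rfl⟩ := hle (hσ.2.2 hz)
  refine Subgroup.mem_map_of_mem _ ?_
  rw [MonoidHom.mem_ker, ← hs]
  exact hz

/-- A perfect group all whose central extensions split is the cover of its central quotient. -/
theorem multiplier_quot_center {S : Type u} [Group S] [Finite S] (hperf : commutator S = ⊤)
    [IsCyclic (Subgroup.center S)]
    (hlift : ∀ (E : Type u) [Group E] (σ : E →* S ⧸ Subgroup.center S), Function.Surjective σ →
      σ.ker ≤ Subgroup.center E → ∃ s : S →* E, σ.comp s = QuotientGroup.mk' (Subgroup.center S)) :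
    Cfsg.HasCyclicSchurMultiplier (S ⧸ Subgroup.center S) (Nat.card (Subgroup.center S)) := by
  refine ⟨⟨S, inferInstance, inferInstance, QuotientGroup.mk' _, ⟨QuotientGroup.mk'_surjective _, ?_, ?_⟩, ?_⟩,
    fun E _ _ σ hσ => ?_⟩
  · rw [QuotientGroup.ker_mk']
  · rw [hperf]; exact le_top
  · exact ⟨(MulEquiv.subgroupCongr (QuotientGroup.ker_mk' _)).trans
      (zmodMulEquivOfGenerator (Classical.choose_spec (IsCyclic.exists_generator (α := Subgroup.center S))) rfl).symm⟩
  · obtain ⟨s, hs⟩ := hlift E σ hσ.1 hσ.2.1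
    have hmem : ∀ z : Subgroup.center S, s z ∈ σ.ker := fun z => by
      rw [MonoidHom.mem_ker, ← MonoidHom.comp_apply, hs, ← MonoidHom.mem_ker, QuotientGroup.ker_mk']
      exact z.2
    let f : Subgroup.center S →* σ.ker := (s.comp (Subgroup.center S).subtype).codRestrict σ.ker hmem
    have hf : Function.Surjective f := fun y => by
      obtain ⟨x, hx, hxy⟩ := ker_le_map hσ (QuotientGroup.mk'_surjective _) hs y.2
      rw [QuotientGroup.ker_mk'] at hx
      exact ⟨⟨x, hx⟩, Subtype.ext hxy⟩
    let g := zmodMulEquivOfGenerator (Classical.choose_spec (IsCyclic.exists_generator (α := Subgroup.center S))) rfl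
    exact ⟨f.comp g.toMonoidHom, hf.comp g.surjective⟩

theorem isCyclic_center {F : Type*} [Field F] [Fintype F] {n : ℕ} (hn : 2 ≤ n) :
    IsCyclic (Subgroup.center (Matrix.SpecialLinearGroup (Fin n) F)) := by
  haveI : NeZero n := ⟨by omega⟩
  haveI : NeZero (Fintype.card (Fin n)) := ⟨by rw [Fintype.card_fin]; omega⟩
  have e := Matrix.SpecialLinearGroup.center_equiv_rootsOfUnity' (n := Fin n) (R := F) ⟨0, by omega⟩
  exact e.isCyclic.mpr inferInstance

/-- **The multiplier of `PSL_n(q)`.** -/
theorem psl_multiplier {F : Type u} [Field F] [Fintype F] {n : ℕ} (hn : 2 ≤ n)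
    (h2 : n = 2 → 4 < Fintype.card F ∧ Fintype.card F ≠ 9) (h3 : n = 3 → Fintype.card F ≠ 2 ∧ Fintype.card F ≠ 4)
    (h4 : n = 4 → Fintype.card F ≠ 2) :
    Cfsg.HasCyclicSchurMultiplier (Matrix.ProjectiveSpecialLinearGroup (Fin n) F)
      (Nat.gcd n (Fintype.card F - 1)) := by
  classical
  haveI := isCyclic_center (F := F) hn
  haveI : Nonempty (Fin n) := ⟨⟨0, by omega⟩⟩
  have hcard : Nat.card (Subgroup.center (Matrix.SpecialLinearGroup (Fin n) F)) =
      Nat.gcd n (Fintype.card F - 1) := by
    rw [CfsgLib.Classical.card_center_SL, Fintype.card_fin, Nat.card_eq_fintype_card, Fintype.card_units]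
  rw [← hcard]
  rcases eq_or_lt_of_le hn with rfl | hn3
  · obtain ⟨h5, h9⟩ := h2 rfl
    refine multiplier_quot_center (CfsgLib.Classical.SL_le_of_transvections _ fun i j hij c => ?_)
      fun E _ σ hσ hc => CfsgLib.Known.SL2Lift.exists_lift (by omega) h9 h5 σ hσ hc _
    obtain ⟨t, ht⟩ := exists_pow_ne_one F 2 (fun hd => by have := Nat.le_of_dvd (by norm_num) hd; omega)
    rw [commutator_eq_closure]
    exact Subgroup.subset_closure (CfsgLib.Classical.transvection_mem_commutatorSet_of_sq hij
      (x := (t : F)) t.ne_zero (fun h => ht (Units.ext (by simpa using h))) c)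
  · refine multiplier_quot_center (CfsgLib.Classical.commutator_SL_eq_top (by rw [Fintype.card_fin]; omega))
      fun E _ σ hσ hc => exists_lift (by omega) h3 h4 σ hσ hc _

end CfsgLib.Known.SLLift
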