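import Cfsg.Prelude.Def_KGroupFacts
import Mathlib

/-!
# Transport of Schur multipliers along isomorphisms
-/

set_option autoImplicit false

namespace CfsgLib.Known.SLLift

universe u v

theorem isStem_comp {Γ : Type u} {G H : Type v} [Group Γ] [Group G] [Group H] {σ : Γ →* G}
    (hσ : Cfsg.IsStemExtension σ) (e : G ≃* H) :
    Cfsg.IsStemExtension (e.toMonoidHom.comp σ) ∧ (e.toMonoidHom.comp σ).ker = σ.ker := by
  have hk : (e.toMonoidHom.comp σ).ker = σ.ker := by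
    ext x
    simp [MonoidHom.mem_ker]
  exact ⟨⟨e.surjective.comp hσ.1, hk ▸ hσ.2.1, hk ▸ hσ.2.2⟩, hk⟩

theorem hasSchurMultiplier_congr {G H : Type u} [Group G] [Group H] {A : Type v} [CommGroup A]
    (e : G ≃* H) (h : Cfsg.HasSchurMultiplier G A) : Cfsg.HasSchurMultiplier H A := by
  obtain ⟨⟨Γ, i1, i2, σ, hσ, ⟨f⟩⟩, hall⟩ := h
  obtain ⟨hσ', hk⟩ := isStem_comp hσ e
  refine ⟨⟨Γ, i1, i2, _, hσ', ⟨(MulEquiv.subgroupCongr hk).trans f⟩⟩, fun Δ _ _ τ hτ => ?_⟩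
  obtain ⟨hτ', hk'⟩ := isStem_comp hτ e.symm
  obtain ⟨π, hπ⟩ := hall Δ _ hτ'
  exact ⟨(MulEquiv.subgroupCongr hk').toMonoidHom.comp π,
    (MulEquiv.subgroupCongr hk').surjective.comp hπ⟩

end CfsgLib.Known.SLLift
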