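import Cfsg.Agent.Lib.Known.SLLift.Root
import Cfsg.Agent.Lib.Known.SL2Lift
import Cfsg.Agent.Lib.SLSteinberg.Inject
import Cfsg.Agent.Lib.Classical.SLBasic
import Cfsg.Agent.Lib.Known.PSLMinIndexMain

/-!
# Central extensions of `SL_n(q)` split

For `n ≥ 3` outside `(3,2)`, `(3,4)`, `(4,2)`: the commutators of lifts of root elements satisfy the Steinberg
relations, so generate a copy of `SL_n`.
-/

set_option autoImplicit false

namespace CfsgLib.Known.SLLift

open Matrix CfsgLib.Known.SL2Lift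
open scoped commutatorElement

theorem exists_pow_ne_one (F : Type*) [Field F] [Fintype F] (k : ℕ)
    (hk : ¬ (Fintype.card F - 1) ∣ k) : ∃ t : Fˣ, t ^ k ≠ 1 := by
  classical
  obtain ⟨t, ht⟩ := IsCyclic.exists_generator (α := Fˣ)
  refine ⟨t, fun h => hk ?_⟩
  rw [← Fintype.card_units, ← Nat.card_eq_fintype_card, ← orderOf_eq_card_of_forall_mem_zpowers ht]
  exact orderOf_dvd_of_pow_eq_one h

variable {F : Type*} [Field F] {n : ℕ}

theorem exists_third (hn : 3 ≤ n) (a b : Fin n) : ∃ c, c ≠ a ∧ c ≠ b := by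
  by_contra h
  push Not at h
  have hle : (Finset.univ : Finset (Fin n)) ⊆ {a, b} := fun c _ => by
    rw [Finset.mem_insert, Finset.mem_singleton]
    exact or_iff_not_imp_left.mpr (h c)
  have := (Finset.card_le_card hle).trans Finset.card_le_two
  simp at this
  omega

theorem exists_off_or (hn : 3 ≤ n) {i j k l : Fin n} (hij : i ≠ j) (hkl : k ≠ l) (hjk : j ≠ k) (hil : i ≠ l) :
    (∃ p, p ≠ i ∧ p ≠ j ∧ p ≠ k ∧ p ≠ l) ∨ (n = 3 ∧ i = k ∧ j ≠ l) ∨ (n = 3 ∧ j = l ∧ i ≠ k) ∨
      (n = 4 ∧ i ≠ k ∧ j ≠ l) := by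
  by_cases h : ∃ p, p ≠ i ∧ p ≠ j ∧ p ≠ k ∧ p ≠ l
  · exact Or.inl h
  push Not at h
  have hle : (Finset.univ : Finset (Fin n)) ⊆ {i, j, k, l} := fun c _ => by
    simp only [Finset.mem_insert, Finset.mem_singleton]
    exact or_iff_not_imp_left.mpr fun h1 => or_iff_not_imp_left.mpr fun h2 =>
      or_iff_not_imp_left.mpr (h c h1 h2)
  have hn4 : n ≤ 4 := by
    have := (Finset.card_le_card hle).trans Finset.card_le_four
    simpa using this
  by_cases hik : i = k
  · subst hik
    have hle' : (Finset.univ : Finset (Fin n)) ⊆ {i, j, l} := hle.trans fun c hc => by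
      simp only [Finset.mem_insert, Finset.mem_singleton] at hc ⊢
      tauto
    have hn3 : n ≤ 3 := by
      have := (Finset.card_le_card hle').trans Finset.card_le_three
      simpa using this
    refine Or.inr (Or.inl ⟨by omega, rfl, fun hjl => ?_⟩)
    subst hjl
    have hle'' : (Finset.univ : Finset (Fin n)) ⊆ {i, j} := hle'.trans fun c hc => by
      simp only [Finset.mem_insert, Finset.mem_singleton] at hc ⊢
      tauto
    have := (Finset.card_le_card hle'').trans Finset.card_le_two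
    simp at this
    omega
  by_cases hjl : j = l
  · subst hjl
    have hle' : (Finset.univ : Finset (Fin n)) ⊆ {i, j, k} := hle.trans fun c hc => by
      simp only [Finset.mem_insert, Finset.mem_singleton] at hc ⊢
      tauto
    have hn3 : n ≤ 3 := by
      have := (Finset.card_le_card hle').trans Finset.card_le_three
      simpa using this
    exact Or.inr (Or.inr (Or.inl ⟨by omega, rfl, hik⟩))
  rcases Nat.lt_or_ge n 4 with hn3 | hn3
  · exfalso
    have h4 : ({i, j, k, l} : Finset (Fin n)).card ≤ (Finset.univ : Finset (Fin n)).card :=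
      Finset.card_le_univ _
    rw [Finset.card_univ, Fintype.card_fin, Finset.card_insert_of_notMem (by simp [hij, hik, hil]),
      Finset.card_insert_of_notMem (by simp [hjk, hjl]), Finset.card_pair hkl] at h4
    omega
  · exact Or.inr (Or.inr (Or.inr ⟨by omega, hik, hjl⟩))

/-- The torus element with a single exceptional coordinate. -/
def bump (i : Fin n) (t : Fˣ) : Fin n → Fˣ := Function.update (fun _ => t) i ((t⁻¹) ^ (n - 1))

theorem bump_prod (i : Fin n) (t : Fˣ) : ∏ x, bump i t x = 1 := by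
  rw [bump, Finset.prod_update_of_mem (Finset.mem_univ i), Finset.prod_const, Finset.card_sdiff]
  simp

theorem bump_self (i : Fin n) (t : Fˣ) : bump i t i = (t⁻¹) ^ (n - 1) := by simp [bump]

theorem bump_ne {i j : Fin n} (h : j ≠ i) (t : Fˣ) : bump i t j = t := by simp [bump, h]

/-- A biadditive trick: a map invariant under a homothety other than the identity is trivial. -/
theorem eq_one_of_homothety {M : Type*} [Group M] (f : F → M) (hadd : ∀ a b, f (a + b) = f a * f b)
    (α : F) (hα : α ≠ 1) (hinv : ∀ a, f (α * a) = f a) (a : F) : f a = 1 := by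
  have h := hinv (a / (α - 1))
  rw [show α * (a / (α - 1)) = a + a / (α - 1) by
    field_simp [sub_ne_zero.mpr hα]; ring, hadd] at h
  exact mul_eq_right.mp h

section central

variable {E : Type*} [Group E] {σ : E →* Matrix.SpecialLinearGroup (Fin n) F}
  (hσ : Function.Surjective σ) (hc : σ.ker ≤ Subgroup.center E)

local notation "SLn" => Matrix.SpecialLinearGroup (Fin n) F

/-- A lift. -/
noncomputable def pre (g : SLn) : E := Function.surjInv hσ g

theorem σ_pre (g : SLn) : σ (pre hσ g) = g := Function.surjInv_eq hσ g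

/-- The commutator of lifts. -/
noncomputable def cm (g h : SLn) : E := ⁅pre hσ g, pre hσ h⁆

theorem σ_cm (g h : SLn) : σ (cm hσ g h) = ⁅g, h⁆ := by
  rw [cm, map_commutatorElement, σ_pre, σ_pre]

theorem cm_inv (g h : SLn) : (cm hσ g h)⁻¹ = cm hσ h g := commutatorElement_inv _ _

include hσ hc

theorem cm_eq {a b : E} {g h : SLn} (ha : σ a = g) (hb : σ b = h) : ⁅a, b⁆ = cm hσ g h := by
  rw [cm, comm_central_left hc (ha.trans (σ_pre hσ g).symm),
    comm_central_right hc (hb.trans (σ_pre hσ h).symm)]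

theorem conj_cm (x g h : SLn) :
    pre hσ x * cm hσ g h * (pre hσ x)⁻¹ = cm hσ (x * g * x⁻¹) (x * h * x⁻¹) := by
  have e := map_commutatorElement (MulAut.conj (pre hσ x)).toMonoidHom (pre hσ g) (pre hσ h)
  simp only [MulEquiv.coe_toMonoidHom, MulAut.conj_apply] at e
  rw [cm, e]
  exact cm_eq hσ hc (by simp [σ_pre]) (by simp [σ_pre])

theorem cm_central {g h : SLn} (hgh : g * h = h * g) (a : E) : a * cm hσ g h = cm hσ g h * a := by
  refine Subgroup.mem_center_iff.mp (hc ?_) a
  rw [MonoidHom.mem_ker, σ_cm, commutatorElement_eq_one_iff_mul_comm, hgh]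

theorem cm_conj_eq {g h : SLn} (hgh : g * h = h * g) (x : SLn) :
    cm hσ (x * g * x⁻¹) (x * h * x⁻¹) = cm hσ g h := by
  rw [← conj_cm hσ hc, cm_central hσ hc hgh, mul_inv_cancel_right]

theorem cm_mul_left {g g' h : SLn} (hgh : g' * h = h * g') :
    cm hσ (g * g') h = cm hσ g' h * cm hσ g h := by
  rw [← cm_eq hσ hc (a := pre hσ g * pre hσ g') (by rw [map_mul, σ_pre, σ_pre]) (σ_pre hσ h), comm_mul_left,
    ← cm, ← cm, cm_central hσ hc hgh, mul_inv_cancel_right]

theorem cm_mul_right {g h h' : SLn} (hgh : g * h' = h' * g) :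
    cm hσ g (h * h') = cm hσ g h * cm hσ g h' := by
  rw [← cm_eq hσ hc (σ_pre hσ g) (b := pre hσ h * pre hσ h') (by rw [map_mul, σ_pre, σ_pre]), comm_mul_right,
    ← cm, ← cm, cm_central hσ hc hgh, mul_inv_cancel_right]

theorem cm_T_add_left {i j k l : Fin n} (hij : i ≠ j) (hkl : k ≠ l) (hjk : j ≠ k) (hil : i ≠ l) (a b v : F) :
    cm hσ (T i j (a + b)) (T k l v) = cm hσ (T i j a) (T k l v) * cm hσ (T i j b) (T k l v) := by
  rw [T_add hij, cm_mul_left hσ hc (T_comm hij hkl hjk hil b v),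
    cm_central hσ hc (T_comm hij hkl hjk hil a v)]

theorem cm_T_add_right {i j k l : Fin n} (hij : i ≠ j) (hkl : k ≠ l) (hjk : j ≠ k) (hil : i ≠ l) (u a b : F) :
    cm hσ (T i j u) (T k l (a + b)) = cm hσ (T i j u) (T k l a) * cm hσ (T i j u) (T k l b) := by
  rw [T_add hkl, cm_mul_right hσ hc (T_comm hij hkl hjk hil u b)]

theorem comm_off {i j k l p : Fin n} (hij : i ≠ j) (hkl : k ≠ l) (hjk : j ≠ k) (hil : i ≠ l)
    (hpi : p ≠ i) (hpj : p ≠ j) (hpk : p ≠ k) (hpl : p ≠ l) (u v : F) :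
    cm hσ (T i j u) (T k l v) = 1 := by
  have hy : σ (cm hσ (T i p u) (T p j 1)) = T i j u := by
    rw [σ_cm, T_commutator hpi.symm hpj hij, mul_one]
  rw [← cm_eq hσ hc hy (σ_pre hσ (T k l v)), ← commutatorElement_inv, commutatorElement_def, conj_cm hσ hc,
    T_conj_fix hpi.symm hkl hpk hil, T_conj_fix hpj hkl hjk hpl, mul_inv_cancel, inv_one]

theorem comm_torus {i j k l : Fin n} (hij : i ≠ j) (hkl : k ≠ l) (hjk : j ≠ k) (hil : i ≠ l)
    (d : Fin n → Fˣ) (hd : ∏ x, d x = 1) (hne : ((d i : F) / d j) ≠ 1) (heq : d k = d l) (u v : F) :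
    cm hσ (T i j u) (T k l v) = 1 := by
  refine eq_one_of_homothety (fun a => cm hσ (T i j a) (T k l v))
    (fun a b => cm_T_add_left hσ hc hij hkl hjk hil a b v) _ hne (fun a => ?_) u
  show cm hσ (T i j _) (T k l v) = cm hσ (T i j a) (T k l v)
  conv_rhs => rw [← cm_conj_eq hσ hc (T_comm hij hkl hjk hil a v) (tor d hd), tor_T hij, tor_T hkl, heq,
    div_self (Units.ne_zero _), one_mul]

theorem cross {i j k l : Fin n} (hij : i ≠ j) (hkl : k ≠ l) (hjk : j ≠ k) (hil : i ≠ l)
    (hik : i ≠ k) (hjl : j ≠ l) (u v : F) :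
    cm hσ (T i j u) (T k l v) = cm hσ (T i l (u * v)) (T k j 1) := by
  have hy : σ (cm hσ (T i k u) (T k j 1)) = T i j u := by
    rw [σ_cm, T_commutator hik hjk.symm hij, mul_one]
  have hflip : cm hσ (T k l v) (T i j u) = cm hσ (T i l (-(u * v))) (T k j 1) := by
    rw [← cm_eq hσ hc (σ_pre hσ (T k l v)) hy, commutatorElement_def, conj_cm hσ hc,
      T_conj_mid' hik hkl hil, T_conj_fix hjk.symm hkl hjk hkl,
      cm_mul_left hσ hc (T_comm hil hjk.symm hkl.symm hij _ _), mul_inv_cancel_right]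
  rw [← cm_inv, hflip, inv_eq_iff_mul_eq_one,
    ← cm_T_add_left hσ hc hil hjk.symm hkl.symm hij, neg_add_cancel, T_zero hil]
  rw [cm, comm_central_left hc (a' := (1 : E)) (by rw [σ_pre, map_one]), commutatorElement_one_left]

theorem comm_disjoint (h2 : (2 : F) ≠ 0) {i j k l : Fin n} (hij : i ≠ j) (hkl : k ≠ l) (hjk : j ≠ k)
    (hil : i ≠ l) (hik : i ≠ k) (hjl : j ≠ l) (u v : F) : cm hσ (T i j u) (T k l v) = 1 := by
  have hrot : ∀ a : F, cm hσ (T i j a) (T k l (1 : F)) = cm hσ (T i l a) (T k j (-1 : F)) := by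
    intro a
    have hc' := T_comm hij hkl hjk hil a (1 : F)
    have h1 := cm_conj_eq hσ hc hc' (T l j (1 : F) * (T j l (-1 : F) * T l j (1 : F)))
    have e1 : (T l j (1 : F) * (T j l (-1 : F) * T l j (1 : F))) * T i j a * (T l j (1 : F) * (T j l (-1 : F) * T l j (1 : F)))⁻¹ = T i l a := by
      calc _ = T l j (1 : F) * (T j l (-1 : F) * (T l j (1 : F) * T i j a * (T l j (1 : F))⁻¹) * (T j l (-1 : F))⁻¹) * (T l j (1 : F))⁻¹ := by group
        _ = T l j (1 : F) * (T i j a * T i l (-(a * -1))) * (T l j (1 : F))⁻¹ := by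
          rw [T_conj_fix hij hjl.symm hjl hij, T_conj_mid' hij hjl hil]
        _ = (T l j (1 : F) * T i j a * (T l j (1 : F))⁻¹) * (T l j (1 : F) * T i l (-(a * -1)) * (T l j (1 : F))⁻¹) := by group
        _ = _ := by
          rw [T_conj_fix hij hjl.symm hjl hij, T_conj_mid' hil hjl.symm hij, mul_neg, mul_one, neg_neg,
            mul_one, ← mul_assoc, T_comm hij hil hij.symm hil, mul_assoc, ← T_add hij, add_neg_cancel,
            T_zero hij, mul_one]
    have e2 : (T l j (1 : F) * (T j l (-1 : F) * T l j (1 : F))) * T k l (1 : F) * (T l j (1 : F) * (T j l (-1 : F) * T l j (1 : F)))⁻¹ =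
        T k j (-1 : F) := by
      calc _ = T l j (1 : F) * (T j l (-1 : F) * (T l j (1 : F) * T k l (1 : F) * (T l j (1 : F))⁻¹) * (T j l (-1 : F))⁻¹) * (T l j (1 : F))⁻¹ := by group
        _ = T l j (1 : F) * ((T j l (-1 : F) * T k l (1 : F) * (T j l (-1 : F))⁻¹) * (T j l (-1 : F) * T k j (-1 : F) * (T j l (-1 : F))⁻¹)) *
              (T l j (1 : F))⁻¹ := by
          rw [T_conj_mid' hkl hjl.symm hjk.symm]; simp only [mul_one]; group
        _ = T l j (1 : F) * T k j (-1 : F) * (T l j (1 : F))⁻¹ := by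
          rw [T_conj_fix hkl hjl hjl.symm hkl, T_conj_mid' hjk.symm hjl hkl, neg_mul_neg, one_mul,
            ← mul_assoc (T k l (1 : F)), T_comm hkl hjk.symm hkl.symm hjk.symm, mul_assoc (T k j (-1 : F)),
            ← T_add hkl, add_neg_cancel, T_zero hkl, mul_one]
        _ = _ := T_conj_fix hjk.symm hjl.symm hjl hjk.symm _ _
    rw [e1, e2] at h1
    exact h1.symm
  have hg : ∀ a : F, cm hσ (T i l a) (T k j 1) = 1 := by
    intro a
    have h2' : a / 2 + a / 2 = a := by field_simp; ring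
    have h1 := hrot (a / 2)
    rw [cross hσ hc hij hkl hjk hil hik hjl, mul_one] at h1
    calc cm hσ (T i l a) (T k j 1)
        = cm hσ (T i l (a / 2)) (T k j 1) * cm hσ (T i l (a / 2)) (T k j (-1 : F)) := by
          rw [← h1, ← cm_T_add_left hσ hc hil hjk.symm hkl.symm hij, h2']
      _ = _ := by
        rw [← cm_T_add_right hσ hc hil hjk.symm hkl.symm hij, add_neg_cancel, T_zero hjk.symm, cm,
          comm_central_right hc (b' := (1 : E)) (by rw [σ_pre, map_one]), commutatorElement_one_right]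
  rw [cross hσ hc hij hkl hjk hil hik hjl, hg]

variable [Fintype F] (hn : 3 ≤ n) (h3 : n = 3 → Fintype.card F ≠ 2 ∧ Fintype.card F ≠ 4)
  (h4 : n = 4 → Fintype.card F ≠ 2)
include hn h3 h4

theorem cm_T {i j k l : Fin n} (hij : i ≠ j) (hkl : k ≠ l) (hjk : j ≠ k) (hil : i ≠ l) (u v : F) :
    cm hσ (T i j u) (T k l v) = 1 := by
  classical
  have hq : 2 ≤ Fintype.card F := Fintype.one_lt_card
  have ht3 : n = 3 → ∃ t : Fˣ, t ^ 3 ≠ 1 := fun hn3 => exists_pow_ne_one F 3 (by
    obtain ⟨a, b⟩ := h3 hn3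
    intro hd
    rcases (Nat.dvd_prime Nat.prime_three).mp hd with h | h <;> omega)
  rcases exists_off_or hn hij hkl hjk hil with ⟨p, hpi, hpj, hpk, hpl⟩ | ⟨hn3, hik, hjl⟩ | ⟨hn3, hjl, hik⟩ |
    ⟨hn4, hik, hjl⟩
  · exact comm_off hσ hc hij hkl hjk hil hpi hpj hpk hpl u v
  · obtain ⟨t, ht⟩ := ht3 hn3
    subst hik
    refine comm_torus hσ hc hij hkl hjk hil (bump j t) (bump_prod j t) ?_ ?_ u v
    · rw [bump_ne hij, bump_self, ← Units.val_div_eq_div_val, Ne, Units.val_eq_one]
      intro h; apply ht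
      rw [show n - 1 = 2 by omega] at h
      rwa [div_eq_mul_inv, inv_pow, inv_inv, ← pow_succ'] at h
    · rw [bump_ne hij, bump_ne hjl.symm]
  · obtain ⟨t, ht⟩ := ht3 hn3
    subst hjl
    refine comm_torus hσ hc hij hkl hjk hil (bump i t) (bump_prod i t) ?_ ?_ u v
    · rw [bump_ne hij.symm, bump_self, ← Units.val_div_eq_div_val, Ne, Units.val_eq_one]
      intro h; apply ht
      rw [show n - 1 = 2 by omega, div_eq_one, inv_pow, inv_eq_iff_mul_eq_one, ← pow_succ] at h
      exact h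
    · rw [bump_ne (Ne.symm hik), bump_ne hij.symm]
  · by_cases hq3 : Fintype.card F = 3
    · refine comm_disjoint hσ hc (fun h2 => ?_) hij hkl hjk hil hik hjl u v
      have h3' : (3 : F) = 0 := by
        have := FiniteField.cast_card_eq_zero F
        rw [hq3] at this
        exact_mod_cast this
      exact one_ne_zero (α := F) (by linear_combination h3' - h2)
    · obtain ⟨t, ht⟩ := exists_pow_ne_one F 2 (fun hd => by
        have := h4 hn4
        rcases (Nat.dvd_prime Nat.prime_two).mp hd with h | h <;> omega)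
      refine comm_torus hσ hc hij hkl hjk hil (Pi.mulSingle i t * Pi.mulSingle j t⁻¹) ?_ ?_ ?_ u v
      · simp [Finset.prod_mul_distrib]
      · simp only [Pi.mul_apply, Pi.mulSingle_eq_same, Pi.mulSingle_eq_of_ne hij, Pi.mulSingle_eq_of_ne hij.symm,
          mul_one, one_mul, ← Units.val_div_eq_div_val, Ne, Units.val_eq_one, div_inv_eq_mul, ← sq]
        exact ht
      · simp [Pi.mulSingle_eq_of_ne hik.symm, Pi.mulSingle_eq_of_ne hjk.symm, Pi.mulSingle_eq_of_ne hil.symm,
          Pi.mulSingle_eq_of_ne hjl.symm]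

/-- Lifts of commuting root elements commute. -/
theorem lift_comm {i j k l : Fin n} (hij : i ≠ j) (hkl : k ≠ l) (hjk : j ≠ k) (hil : i ≠ l) {u v : F}
    {a b : E} (ha : σ a = T i j u) (hb : σ b = T k l v) : a * b = b * a := by
  rw [← commutatorElement_eq_one_iff_mul_comm, cm_eq hσ hc ha hb, cm_T hσ hc hn h3 h4 hij hkl hjk hil]

theorem B_add_left {i j l : Fin n} (hij : i ≠ j) (hjl : j ≠ l) (hil : i ≠ l) (a b v : F) :
    cm hσ (T i j (a + b)) (T j l v) = cm hσ (T i j b) (T j l v) * cm hσ (T i j a) (T j l v) := by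
  have hc' := lift_comm hσ hc hn h3 h4 hij hil hij.symm hil (σ_pre hσ (T i j a))
    (b := cm hσ (T i j b) (T j l v)) (v := b * v) (by rw [σ_cm, T_commutator hij hjl hil])
  rw [T_add hij, ← cm_eq hσ hc (a := pre hσ (T i j a) * pre hσ (T i j b))
    (by rw [map_mul, σ_pre, σ_pre]) (σ_pre hσ (T j l v)), comm_mul_left, ← cm, ← cm, hc',
    mul_inv_cancel_right]

theorem B_add_right {i j l : Fin n} (hij : i ≠ j) (hjl : j ≠ l) (hil : i ≠ l) (u a b : F) :
    cm hσ (T i j u) (T j l (a + b)) = cm hσ (T i j u) (T j l a) * cm hσ (T i j u) (T j l b) := by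
  have hc' := lift_comm hσ hc hn h3 h4 hjl hil hil.symm hjl (σ_pre hσ (T j l a))
    (b := cm hσ (T i j u) (T j l b)) (v := u * b) (by rw [σ_cm, T_commutator hij hjl hil])
  rw [T_add hjl, ← cm_eq hσ hc (σ_pre hσ (T i j u)) (b := pre hσ (T j l a) * pre hσ (T j l b))
    (by rw [map_mul, σ_pre, σ_pre]), comm_mul_right, ← cm, ← cm, hc', mul_inv_cancel_right]

theorem B_assoc {i j p l : Fin n} (hij : i ≠ j) (hip : i ≠ p) (hil : i ≠ l) (hjp : j ≠ p) (hjl : j ≠ l)
    (hpl : p ≠ l) (u v w : F) :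
    cm hσ (T i p (u * v)) (T p l w) = cm hσ (T i j u) (T j l (v * w)) := by
  set a := pre hσ (T i j u) with ha
  set b := pre hσ (T j p v) with hb
  set c := pre hσ (T p l w) with hc0
  have hx : σ ⁅a, b⁆ = T i p (u * v) := by rw [map_commutatorElement, σ_pre, σ_pre, T_commutator hij hjp hip]
  have hy : σ ⁅b, c⁆ = T j l (v * w) := by rw [map_commutatorElement, σ_pre, σ_pre, T_commutator hjp hpl hjl]
  rw [← cm_eq hσ hc hx (σ_pre hσ (T p l w)), ← hc0, ← cm_eq hσ hc (σ_pre hσ (T i j u)) hy, ← ha]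
  set x := ⁅a, b⁆ with hx'
  set y := ⁅b, c⁆ with hy'
  have hac : a * c = c * a := lift_comm hσ hc hn h3 h4 hij hpl hjp hil (σ_pre hσ _) (σ_pre hσ _)
  have hxy : x * y = y * x := lift_comm hσ hc hn h3 h4 hip hjl hjp.symm hil hx hy
  have hz : σ ⁅x, c⁆ = T i l (u * v * w) := by rw [map_commutatorElement, hx, σ_pre, T_commutator hip hpl hil]
  have hzy : ⁅x, c⁆ * y = y * ⁅x, c⁆ := lift_comm hσ hc hn h3 h4 hil hjl hjl.symm hil hz hy
  have h1 : a * y * a⁻¹ = ⁅x * b, c⁆ := by
    have hac' : a * c * a⁻¹ = c := by rw [hac, mul_inv_cancel_right]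
    have e := map_commutatorElement (MulAut.conj a).toMonoidHom b c
    simp only [MulEquiv.coe_toMonoidHom, MulAut.conj_apply] at e
    rw [hy', e, hac']
    congr 1
    rw [hx', commutatorElement_def]; group
  rw [comm_mul_left, ← hy', hxy, mul_inv_cancel_right, ← hzy] at h1
  rw [commutatorElement_def (G := E) a y, h1, mul_inv_cancel_right]

open CfsgLib.SLSteinberg in
theorem stComm_of (e : Fin n → Fin n → F → E) (hproj : ∀ i j, i ≠ j → ∀ t, σ (e i j t) = T i j t)
    (hadd : ∀ i j, i ≠ j → ∀ t u, e i j (t + u) = e i j t * e i j u)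
    (hprod : ∀ i j l, i ≠ j → j ≠ l → i ≠ l → ∀ u v, cm hσ (T i j u) (T j l v) = e i l (u * v)) :
    StComm e := by
  refine ⟨fun i j t u h => hadd i j h t u,
    fun i j k l hij hkl hil hjk t u => lift_comm hσ hc hn h3 h4 hij hkl hjk hil (hproj i j hij t) (hproj k l hkl u),
    fun i j k hij hjk hik t u => ?_⟩
  rw [← hprod i j k hij hjk hik, ← cm_eq hσ hc (hproj i j hij t) (hproj j k hjk u), commutatorElement_def,
    inv_mul_cancel_right]

theorem exists_stComm : ∃ e : Fin n → Fin n → F → E,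
    CfsgLib.SLSteinberg.StComm e ∧ ∀ i j, i ≠ j → ∀ t, σ (e i j t) = T i j t := by
  classical
  by_cases hn3 : n = 3
  · -- the torus fixes the lifts
    have hq : 2 ≤ Fintype.card F := Fintype.one_lt_card
    obtain ⟨t, ht⟩ := exists_pow_ne_one F 3 (by
      obtain ⟨a, b⟩ := h3 hn3
      intro hd
      rcases (Nat.dvd_prime Nat.prime_three).mp hd with h | h <;> omega)
    let H : Fin n → SLn := fun i => tor (bump i t) (bump_prod i t)
    set γ : F := (((t⁻¹) ^ 3 : Fˣ) : F) with hγdef
    have hγ : γ ≠ 1 := by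
      rw [hγdef, Ne, Units.val_eq_one, inv_pow, inv_eq_one]; exact ht
    have hHT : ∀ i l, i ≠ l → ∀ x : F, H i * T i l x * (H i)⁻¹ = T i l (γ * x) := by
      intro i l hil x
      rw [tor_T hil, bump_self, bump_ne hil.symm, ← Units.val_div_eq_div_val, hγdef, show n - 1 = 2 by omega, div_eq_mul_inv,
        ← pow_succ]
    let e : Fin n → Fin n → F → E := fun i l w => cm hσ (H i) (T i l (w / (γ - 1)))
    have hproj : ∀ i j, i ≠ j → ∀ w, σ (e i j w) = T i j w := by
      intro i j hij w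
      rw [σ_cm, commutatorElement_def, hHT i j hij, ← T_neg hij, ← T_add hij]
      congr 1
      field_simp [sub_ne_zero.mpr hγ]
      ring
    have hadd : ∀ i j, i ≠ j → ∀ a b, e i j (a + b) = e i j a * e i j b := by
      intro i j hij a b
      have hc' := lift_comm hσ hc hn h3 h4 hij hij hij.symm hij (σ_pre hσ (T i j (a / (γ - 1))))
        (b := e i j b) (v := b) (hproj i j hij b)
      show cm hσ (H i) (T i j ((a + b) / (γ - 1))) = e i j a * e i j b
      rw [add_div, T_add hij, ← cm_eq hσ hc (σ_pre hσ (H i))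
        (b := pre hσ (T i j (a / (γ - 1))) * pre hσ (T i j (b / (γ - 1)))) (by rw [map_mul, σ_pre, σ_pre]),
        comm_mul_right, ← cm, ← cm, show cm hσ (H i) (T i j (b / (γ - 1))) = e i j b from rfl, hc',
        mul_inv_cancel_right]
    refine ⟨e, stComm_of hσ hc hn h3 h4 e hproj hadd fun i j l hij hjl hil u v => ?_, hproj⟩
    have hσB : ∀ a, σ (cm hσ (T i j a) (T j l v)) = T i l (a * v) := fun a => by
      rw [σ_cm, T_commutator hij hjl hil]
    have hcen : ∀ a z, cm hσ (T i j a) (T j l v) * (e i l (a * v))⁻¹ * z =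
        z * (cm hσ (T i j a) (T j l v) * (e i l (a * v))⁻¹) := fun a z =>
      (Subgroup.mem_center_iff.mp (hc (by
        rw [MonoidHom.mem_ker, map_mul, map_inv, hσB, hproj i l hil, mul_inv_cancel])) z).symm
    have key : ∀ a, cm hσ (T i j a) (T j l v) * (e i l (a * v))⁻¹ = 1 := by
      refine eq_one_of_homothety _ (fun a b => ?_) γ hγ (fun a => ?_)
      · show cm hσ (T i j (a + b)) (T j l v) * (e i l ((a + b) * v))⁻¹ = _
        rw [B_add_left hσ hc hn h3 h4 hij hjl hil, add_mul, hadd i l hil, _root_.mul_inv_rev,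
          ← hcen b, mul_assoc (cm hσ (T i j b) (T j l v)), ← mul_assoc (cm hσ (T i j a) (T j l v))]
        have hBe : Commute (cm hσ (T i j a) (T j l v)) (e i l (b * v)) :=
          lift_comm hσ hc hn h3 h4 hil hil hil.symm hil (hσB a) (hproj i l hil (b * v))
        rw [hBe.inv_right.eq]
        simp only [mul_assoc]
      · have hB := conj_cm hσ hc (H i) (T i j a) (T j l v)
        rw [hHT i j hij, tor_T hjl, bump_ne hij.symm, bump_ne hil.symm, div_self (Units.ne_zero _),
          one_mul] at hB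
        have he : pre hσ (H i) * e i l (a * v) * (pre hσ (H i))⁻¹ = e i l (γ * a * v) := by
          show pre hσ (H i) * cm hσ (H i) (T i l (a * v / (γ - 1))) * (pre hσ (H i))⁻¹ = cm hσ (H i) _
          rw [conj_cm hσ hc, mul_inv_cancel_right, hHT i l hil]
          congr 2; ring
        rw [← hB, ← he]
        generalize hX : cm hσ (T i j a) (T j l v) = X
        generalize hY : e i l (a * v) = Y
        have := hcen a (pre hσ (H i))
        rw [hX, hY] at this
        calc pre hσ (H i) * X * (pre hσ (H i))⁻¹ * (pre hσ (H i) * Y * (pre hσ (H i))⁻¹)⁻¹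
            = pre hσ (H i) * (X * Y⁻¹) * (pre hσ (H i))⁻¹ := by group
          _ = _ := by rw [← this, mul_inv_cancel_right]
    exact mul_inv_eq_one.mp (key u)
  · have hn4 : 4 ≤ n := by omega
    choose m hm using exists_third (n := n) hn
    let e : Fin n → Fin n → F → E := fun i l w => cm hσ (T i (m i l) w) (T (m i l) l 1)
    have hproj : ∀ i j, i ≠ j → ∀ w, σ (e i j w) = T i j w := by
      intro i j hij w
      rw [σ_cm, T_commutator (hm i j).1.symm (hm i j).2 hij, mul_one]
    have hadd : ∀ i j, i ≠ j → ∀ a b, e i j (a + b) = e i j a * e i j b := by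
      intro i j hij a b
      show cm hσ _ _ = _
      rw [B_add_left hσ hc hn h3 h4 (hm i j).1.symm (hm i j).2 hij]
      exact lift_comm hσ hc hn h3 h4 hij hij hij.symm hij (hproj i j hij b) (hproj i j hij a)
    refine ⟨e, stComm_of hσ hc hn h3 h4 e hproj hadd fun i j l hij hjl hil u v => ?_, hproj⟩
    show _ = cm hσ (T i (m i l) (u * v)) (T (m i l) l 1)
    obtain ⟨hp1, hp2⟩ := hm i l
    set p := m i l
    by_cases hjp : j = p
    · subst hjp
      obtain ⟨r, hr⟩ : ∃ r, r ≠ i ∧ r ≠ p ∧ r ≠ l := by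
        by_contra h
        push Not at h
        have hle : (Finset.univ : Finset (Fin n)) ⊆ {i, p, l} := fun c _ => by
          simp only [Finset.mem_insert, Finset.mem_singleton]
          exact or_iff_not_imp_left.mpr fun h1 => or_iff_not_imp_left.mpr (h c h1)
        have := (Finset.card_le_card hle).trans Finset.card_le_three
        simp at this
        omega
      have h1 := B_assoc hσ hc hn h3 h4 hij hr.1.symm hil hr.2.1.symm hjl hr.2.2 u v 1
      have h2 := B_assoc hσ hc hn h3 h4 hij hr.1.symm hil hr.2.1.symm hjl hr.2.2 (u * v) 1 1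
      simp only [mul_one] at h1 h2
      rw [← h1, ← h2]
    · have h1 := B_assoc hσ hc hn h3 h4 hij hp1.symm hil hjp hjl hp2 u v 1
      rw [mul_one] at h1
      exact h1.symm

open CfsgLib.SLSteinberg in
theorem exists_section : ∃ s : SLn →* E, σ.comp s = MonoidHom.id _ := by
  classical
  obtain ⟨e, hS, hproj⟩ := exists_stComm hσ hc hn h3 h4
  let W : Subgroup E := Subgroup.closure {g | ∃ i j, i ≠ j ∧ ∃ t, g = e i j t}
  have hmem : ∀ i j, i ≠ j → ∀ t, e i j t ∈ W := fun i j h t => Subgroup.subset_closure ⟨i, j, h, t, rfl⟩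
  let x : Fin n → Fin n → F → W := fun i j t => if h : i ≠ j then ⟨e i j t, hmem i j h t⟩ else 1
  have hx : ∀ i j, i ≠ j → ∀ t, (x i j t : E) = e i j t := fun i j h t => by
    rw [show x i j t = (⟨e i j t, hmem i j h t⟩ : W) from dif_pos h]
  have hSx : StComm x := by
    refine ⟨fun i j t u h => Subtype.ext ?_, fun i j k l h h' h1 h2 t u => Subtype.ext ?_,
      fun i j k h h' h'' t u => Subtype.ext ?_⟩
    · simp only [Subgroup.coe_mul, hx i j h]; exact hS.add i j t u h
    · simp only [Subgroup.coe_mul, hx i j h, hx k l h']; exact hS.comm0 i j k l h h' h1 h2 t u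
    · simp only [Subgroup.coe_mul, Subgroup.coe_inv, hx i j h, hx j k h', hx i k h'']
      exact hS.comm1 i j k h h' h'' t u
  have hgen : Subgroup.closure {g : W | ∃ i j, i ≠ j ∧ ∃ t, g = x i j t} = ⊤ := by
    refine Subgroup.map_injective W.subtype_injective ?_
    rw [← MonoidHom.range_eq_map, Subgroup.range_subtype, MonoidHom.map_closure]
    show _ = Subgroup.closure _
    congr 1
    ext g
    constructor
    · rintro ⟨y, ⟨i, j, h, t, rfl⟩, rfl⟩
      exact ⟨i, j, h, t, hx i j h t⟩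
    · rintro ⟨i, j, h, t, rfl⟩
      exact ⟨_, ⟨i, j, h, t, rfl⟩, hx i j h t⟩
  have hφ : ∀ i j t, i ≠ j → (((σ.comp W.subtype) (x i j t) : SLn) : Matrix (Fin n) (Fin n) F) =
      transvection i j t := by
    intro i j t h
    rw [MonoidHom.comp_apply, Subgroup.coe_subtype, hx i j h, hproj i j h, T_val h]
    rfl
  have hinj := exists_hom x (hSx.toRel (exists_third hn)) (σ.comp W.subtype) hφ hgen
  have hsurj : Function.Surjective (σ.comp W.subtype) := by
    rw [← MonoidHom.range_eq_top]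
    refine CfsgLib.Classical.SL_le_of_transvections _ fun i j hij c => ⟨x i j c, Subtype.ext ?_⟩
    exact hφ i j c hij
  let f := MulEquiv.ofBijective (σ.comp W.subtype) ⟨hinj, hsurj⟩
  exact ⟨W.subtype.comp f.symm.toMonoidHom, MonoidHom.ext fun g => f.apply_symm_apply g⟩

end central

/-- **Central extensions of `SL_n(q)` split.** -/
theorem exists_lift [Fintype F] (hn : 3 ≤ n) (h3 : n = 3 → Fintype.card F ≠ 2 ∧ Fintype.card F ≠ 4)
    (h4 : n = 4 → Fintype.card F ≠ 2) {E G : Type*} [Group E] [Group G] (σ : E →* G)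
    (hσ : Function.Surjective σ) (hc : σ.ker ≤ Subgroup.center E)
    (ψ : Matrix.SpecialLinearGroup (Fin n) F →* G) :
    ∃ s : Matrix.SpecialLinearGroup (Fin n) F →* E, σ.comp s = ψ := by
  let P : Subgroup (Matrix.SpecialLinearGroup (Fin n) F × E) :=
    { carrier := {p | ψ p.1 = σ p.2}
      one_mem' := by simp
      mul_mem' := fun {a b} ha hb => by
        simp only [Set.mem_setOf_eq, Prod.fst_mul, Prod.snd_mul, map_mul] at *
        rw [ha, hb]
      inv_mem' := fun {a} ha => by
        simp only [Set.mem_setOf_eq, Prod.fst_inv, Prod.snd_inv, map_inv] at *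
        rw [ha] }
  let π : P →* Matrix.SpecialLinearGroup (Fin n) F := (MonoidHom.fst _ _).comp P.subtype
  have hπ : Function.Surjective π := fun g => by
    obtain ⟨a, ha⟩ := hσ (ψ g)
    exact ⟨⟨(g, a), ha.symm⟩, rfl⟩
  have hπc : π.ker ≤ Subgroup.center P := fun p hp => by
    have h1 : p.1.1 = 1 := hp
    have h2 : p.1.2 ∈ σ.ker := by
      have h := p.2
      show σ p.1.2 = 1
      rw [← (h : ψ p.1.1 = σ p.1.2), h1, map_one]
    refine Subgroup.mem_center_iff.mpr fun r => Subtype.ext (Prod.ext ?_ ?_)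
    · show r.1.1 * p.1.1 = p.1.1 * r.1.1
      rw [h1, mul_one, one_mul]
    · exact Subgroup.mem_center_iff.mp (hc h2) r.1.2
  obtain ⟨s, hs⟩ := exists_section hπ hπc hn h3 h4
  refine ⟨((MonoidHom.snd _ _).comp P.subtype).comp s, MonoidHom.ext fun g => ?_⟩
  have h1 : (s g).1.1 = g := DFunLike.congr_fun hs g
  have h2 : ψ (s g).1.1 = σ (s g).1.2 := (s g).2
  show σ (s g).1.2 = ψ g
  rw [← h2, h1]

end CfsgLib.Known.SLLift
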