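import Mathlib

/-!
# Root elements of `SL_n`: conjugation table
-/

set_option autoImplicit false

namespace CfsgLib.Known.SLLift

open Matrix
open scoped commutatorElement

variable {F : Type*} [Field F] {n : ℕ}

local notation "SLn" => Matrix.SpecialLinearGroup (Fin n) F

/-- The transvection, extended by one on the diagonal. -/
def T (i j : Fin n) (c : F) : SLn :=
  if h : i ≠ j then Matrix.SpecialLinearGroup.transvection h c else 1

theorem T_val {i j : Fin n} (h : i ≠ j) (c : F) :
    ((T i j c : SLn) : Matrix (Fin n) (Fin n) F) = 1 + Matrix.single i j c := by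
  rw [T, dif_pos h]; rfl

theorem T_add {i j : Fin n} (h : i ≠ j) (a b : F) : T i j (a + b) = T i j a * T i j b := by
  refine Subtype.ext ?_
  show ((T i j (a + b) : SLn) : Matrix (Fin n) (Fin n) F) = (T i j a : SLn).1 * (T i j b : SLn).1
  rw [T_val h, T_val h, T_val h, Matrix.single_add]
  simp [add_mul, mul_add, h.symm, add_assoc, add_comm, add_left_comm]

theorem T_zero {i j : Fin n} (h : i ≠ j) : T i j (0 : F) = 1 := by
  have := T_add (F := F) h 0 0
  rw [add_zero] at this
  exact left_eq_mul.mp this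

theorem T_neg {i j : Fin n} (h : i ≠ j) (a : F) : T i j (-a) = (T i j a)⁻¹ := by
  rw [eq_inv_iff_mul_eq_one, ← T_add h, neg_add_cancel, T_zero h]

theorem T_comm {i j k l : Fin n} (h : i ≠ j) (h' : k ≠ l) (hjk : j ≠ k) (hil : i ≠ l) (a b : F) :
    T i j a * T k l b = T k l b * T i j a := by
  refine Subtype.ext ?_
  show (T i j a : SLn).1 * (T k l b : SLn).1 = (T k l b : SLn).1 * (T i j a : SLn).1
  rw [T_val h, T_val h']
  simp [add_mul, mul_add, hjk, hil.symm]
  abel

theorem T_conj_fix {i j k l : Fin n} (h : i ≠ j) (h' : k ≠ l) (hjk : j ≠ k) (hil : i ≠ l) (a b : F) :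
    T k l b * T i j a * (T k l b)⁻¹ = T i j a := by
  rw [← T_comm h h' hjk hil, mul_inv_cancel_right]

theorem T_mid {i j k : Fin n} (hij : i ≠ j) (hjk : j ≠ k) (hik : i ≠ k) (a b : F) :
    T i j a * T j k b = T i k (a * b) * T j k b * T i j a := by
  refine Subtype.ext ?_
  show (T i j a : SLn).1 * (T j k b : SLn).1 =
    (T i k (a * b) : SLn).1 * (T j k b : SLn).1 * (T i j a : SLn).1
  rw [T_val hij, T_val hjk, T_val hik]
  simp [add_mul, mul_add, hij.symm, hjk.symm, hik.symm, hik, add_assoc, add_comm, add_left_comm]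

theorem T_commutator {i j k : Fin n} (hij : i ≠ j) (hjk : j ≠ k) (hik : i ≠ k) (a b : F) :
    ⁅T i j a, T j k b⁆ = T i k (a * b) := by
  rw [commutatorElement_def, T_mid hij hjk hik, mul_inv_cancel_right, mul_inv_cancel_right]

theorem T_conj_mid {i j k : Fin n} (hij : i ≠ j) (hjk : j ≠ k) (hik : i ≠ k) (a b : F) :
    T i j a * T j k b * (T i j a)⁻¹ = T i k (a * b) * T j k b := by
  rw [T_mid hij hjk hik, mul_inv_cancel_right]

theorem T_conj_mid' {i j k : Fin n} (hij : i ≠ j) (hjk : j ≠ k) (hik : i ≠ k) (a b : F) :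
    T j k b * T i j a * (T j k b)⁻¹ = T i j a * T i k (-(a * b)) := by
  rw [mul_inv_eq_iff_eq_mul, T_neg hik]
  refine mul_left_cancel (a := T i k (a * b)) ?_
  rw [← mul_assoc, ← T_mid hij hjk hik, ← mul_assoc, ← mul_assoc,
    ← T_comm hij hik hij.symm hik, mul_inv_cancel_right]

/-- A diagonal element. -/
def tor (d : Fin n → Fˣ) (h : ∏ x, d x = 1) : SLn :=
  ⟨Matrix.diagonal fun x => (d x : F), by
    rw [Matrix.det_diagonal, ← Units.coe_prod, h, Units.val_one]⟩

theorem tor_T {i j : Fin n} (hij : i ≠ j) (d : Fin n → Fˣ) (h : ∏ x, d x = 1) (a : F) :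
    tor d h * T i j a * (tor d h)⁻¹ = T i j ((d i : F) / d j * a) := by
  rw [mul_inv_eq_iff_eq_mul]
  refine Subtype.ext ?_
  show (tor d h : SLn).1 * (T i j a : SLn).1 = (T i j ((d i : F) / d j * a) : SLn).1 * (tor d h : SLn).1
  rw [T_val hij, T_val hij]
  ext x y
  simp only [tor, mul_add, add_mul, mul_one, one_mul, Matrix.add_apply, Matrix.diagonal_mul,
    Matrix.mul_diagonal, Matrix.single_apply]
  by_cases hxy : i = x ∧ j = y
  · obtain ⟨rfl, rfl⟩ := hxy
    simp [Matrix.one_apply_ne hij]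
    field_simp
  · rw [if_neg hxy, if_neg hxy]
    rcases eq_or_ne x y with rfl | h' <;> simp [*, Matrix.one_apply_ne]

theorem tor_comm (d : Fin n → Fˣ) (h : ∏ x, d x = 1) (d' : Fin n → Fˣ) (h' : ∏ x, d' x = 1) :
    tor d h * tor d' h' = tor d' h' * tor d h := by
  refine Subtype.ext ?_
  show (tor d h : SLn).1 * (tor d' h' : SLn).1 = (tor d' h' : SLn).1 * (tor d h : SLn).1
  simp [tor, mul_comm]

end CfsgLib.Known.SLLift
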